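import Mathlib
import Cfsg.Agent.Lib.Cores.Fitting

/-!
Left-normed commutator values and the coprime product condition on their orders.
-/

set_option autoImplicit false
set_option linter.unusedVariables false

namespace CfsgLib.PGroup.CoprimeValues

open Subgroup
open scoped commutatorElement

variable {G : Type*} [Group G]

/-- Left-normed commutator values of length `k + 1`. -/
def IsVal : ℕ → G → Prop
  | 0, _ => True
  | k + 1, x => ∃ a b, IsVal k a ∧ x = ⁅a, b⁆

theorem isVal_iff (k : ℕ) (x : G) :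
    (∃ f : Fin (k + 1) → G, x = ((List.ofFn f).tail).foldl (fun a b => a * b * a⁻¹ * b⁻¹) (f 0)) ↔
      IsVal k x := by
  induction k generalizing x with
  | zero => exact ⟨fun _ => trivial, fun _ => ⟨fun _ => x, by simp⟩⟩
  | succ k ih =>
    have key : ∀ f : Fin (k + 1 + 1) → G,
        ((List.ofFn f).tail).foldl (fun a b => a * b * a⁻¹ * b⁻¹) (f 0) =
          ⁅((List.ofFn fun i => f i.castSucc).tail).foldl (fun a b => a * b * a⁻¹ * b⁻¹) (f 0),
            f (Fin.last _)⁆ := by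
      intro f
      rw [List.ofFn_succ' f, List.concat_eq_append, List.tail_append_of_ne_nil (by simp),
        List.foldl_append]
      rfl
    constructor
    · rintro ⟨f, rfl⟩
      exact ⟨_, _, (ih _).1 ⟨fun i => f i.castSucc, rfl⟩, key f⟩
    · rintro ⟨a, b, ha, rfl⟩
      obtain ⟨f, rfl⟩ := (ih a).2 ha
      refine ⟨Fin.snoc f b, ?_⟩
      rw [key (Fin.snoc f b)]
      simp only [Fin.snoc_castSucc, Fin.snoc_last]
      rw [show (Fin.snoc f b : Fin (k + 1 + 1) → G) 0 = f 0 from Fin.snoc_castSucc _ _ 0]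

theorem IsVal.of_succ : ∀ {k : ℕ} {x : G}, IsVal (k + 1) x → IsVal k x
  | 0, _, _ => trivial
  | _ + 1, _, ⟨a, b, ha, hx⟩ => ⟨a, b, ha.of_succ, hx⟩

theorem IsVal.map {H : Type*} [Group H] (f : G →* H) :
    ∀ {k : ℕ} {x : G}, IsVal k x → IsVal k (f x)
  | 0, _, _ => trivial
  | _ + 1, _, ⟨a, b, ha, hx⟩ => ⟨f a, f b, ha.map f, by rw [hx, map_commutatorElement]⟩

theorem IsVal.conj {k : ℕ} {x : G} (h : IsVal k x) (g : G) : IsVal k (g * x * g⁻¹) := by
  simpa using h.map (MulAut.conj g).toMonoidHom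

theorem IsVal.mem_lcs : ∀ {k : ℕ} {x : G}, IsVal k x → x ∈ (⊤ : Subgroup G).lowerCentralSeries k
  | 0, _, _ => mem_top _
  | k + 1, _, ⟨a, b, ha, hx⟩ => hx ▸ commutator_mem_commutator ha.mem_lcs (mem_top b)

/-- The condition on orders of products of values of coprime orders. -/
def Cond (G : Type*) [Group G] (k : ℕ) : Prop :=
  ∀ x y : G, IsVal k x → IsVal k y → (orderOf x).Coprime (orderOf y) →
    (∀ r : ℕ, r.Prime → r ∣ orderOf x * orderOf y → r ∣ orderOf (x * y)) ∨
      orderOf x * orderOf y ≤ orderOf (x * y)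

theorem Cond.subgroup {k : ℕ} (h : Cond G k) (H : Subgroup G) : Cond H k := by
  intro x y hx hy hc
  have e : ∀ z : H, orderOf (z : G) = orderOf z := fun z => Subgroup.orderOf_coe z
  have := h (H.subtype x) (H.subtype y) (hx.map H.subtype) (hy.map H.subtype)
    (by simpa only [Subgroup.coe_subtype, e] using hc)
  simpa only [Subgroup.coe_subtype, ← Subgroup.coe_mul, e] using this

/-- Prime power order. -/
def IsPP (x : G) : Prop := ∃ p i : ℕ, p.Prime ∧ orderOf x = p ^ i

/-- Values of prime power order. -/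
def PPVal (k : ℕ) (x : G) : Prop := IsVal k x ∧ IsPP x

theorem isPP_map {H : Type*} [Group H] {f : G →* H} (hf : Function.Injective f) {x : G} (h : IsPP x) :
    IsPP (f x) := by
  obtain ⟨p, i, hp, hx⟩ := h
  exact ⟨p, i, hp, by rw [orderOf_injective f hf, hx]⟩

variable [Finite G]

/-- A value centralises every `p`-subgroup it normalises, if its order is prime to `p`. -/
theorem centralize {k : ℕ} (hC : Cond G k) {p : ℕ} [hp : Fact p.Prime] {y : G} (hy : IsVal k y)
    (hpy : ¬ p ∣ orderOf y) {P : Subgroup G} (hP : IsPGroup p P)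
    (hn : ∀ u ∈ P, y * u * y⁻¹ ∈ P) {u : G} (hu : u ∈ P) : Commute u y := by
  by_contra hcon
  have hcop : ∀ c ∈ P, (orderOf c).Coprime (orderOf y) := by
    intro c hc
    obtain ⟨i, hi⟩ := IsPGroup.iff_orderOf.1 hP ⟨c, hc⟩
    rw [Subgroup.orderOf_mk] at hi
    exact hi ▸ Nat.Coprime.pow_left _ (hp.out.coprime_iff_not_dvd.2 hpy)
  have hmem : ∀ c ∈ P, ⁅c, y⁆ ∈ P := fun c hc => by
    rw [commutatorElement_def, show c * y * c⁻¹ * y⁻¹ = c * (y * c⁻¹ * y⁻¹) by group]
    exact mul_mem hc (hn _ (inv_mem hc))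
  have hfix : ∀ c ∈ P, Commute ⁅c, y⁆ y → ⁅c, y⁆ = 1 := fun c hc hcm => by
    have e : c * y * c⁻¹ = ⁅c, y⁆ * y := by rw [commutatorElement_def]; group
    have h1 : (⁅c, y⁆ * y) ^ orderOf y = 1 := by
      rw [← e, conj_pow, pow_orderOf_eq_one]; group
    rw [hcm.mul_pow, pow_orderOf_eq_one, mul_one] at h1
    exact orderOf_eq_one_iff.1
      (Nat.Coprime.eq_one_of_dvd (hcop _ (hmem c hc)) (orderOf_dvd_of_pow_eq_one h1))
  have hseq : ∀ j, ∃ c ∈ P, IsVal j c ∧ ¬ Commute c y := by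
    intro j
    induction j with
    | zero => exact ⟨u, hu, trivial, hcon⟩
    | succ j ih =>
      obtain ⟨c, hc, hcv, hcn⟩ := ih
      exact ⟨_, hmem c hc, ⟨c, y, hcv, rfl⟩,
        fun h => hcn (commutatorElement_eq_one_iff_commute.1 (hfix c hc h))⟩
  obtain ⟨c, hc, hcv, hcn⟩ := hseq k
  set x := ⁅c, y⁆ with hx
  have hx1 : x ≠ 1 := fun h => hcn (commutatorElement_eq_one_iff_commute.1 h)
  have hxy : orderOf (x * y) = orderOf y := by
    rw [show x * y = MulAut.conj c y by simp [hx, commutatorElement_def]]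
    exact orderOf_injective (MulAut.conj c).toMonoidHom (MulAut.conj c).injective y
  have hxv : IsVal k x := IsVal.of_succ (k := k) ⟨c, y, hcv, rfl⟩
  rcases hC x y hxv hy (hcop _ (hmem c hc)) with h | h
  · obtain ⟨i, hi⟩ := IsPGroup.iff_orderOf.1 hP ⟨x, hmem c hc⟩
    rw [Subgroup.orderOf_mk] at hi
    have hi0 : i ≠ 0 := by
      rintro rfl
      exact hx1 (orderOf_eq_one_iff.1 (by simpa using hi))
    exact hpy (hxy ▸ h p hp.out ((hi ▸ dvd_pow_self p hi0 : p ∣ orderOf x).mul_right _))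
  · rw [hxy] at h
    have h2 : 2 ≤ orderOf x := by
      have := orderOf_pos x
      have : orderOf x ≠ 1 := fun e => hx1 (orderOf_eq_one_iff.1 e)
      omega
    have := Nat.mul_le_mul_right (orderOf y) h2
    have := orderOf_pos y
    omega

/-- The elements of `p`-power order in a nilpotent subgroup form a `p`-group. -/
theorem isPGroup_closure_of_nilpotent {p : ℕ} [Fact p.Prime] {E : Subgroup G} (hE : Group.IsNilpotent E)
    {A : Set G} (hA : ∀ a ∈ A, a ∈ E ∧ ∃ i, orderOf a = p ^ i) : IsPGroup p (closure A) := by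
  haveI := hE
  obtain ⟨P⟩ : Nonempty (Sylow p E) := inferInstance
  haveI : (P : Subgroup E).Normal := inferInstance
  refine IsPGroup.to_le ((P.isPGroup').map E.subtype) ((closure_le _).2 fun a ha => ?_)
  obtain ⟨haE, i, hi⟩ := hA a ha
  have hz : IsPGroup p (zpowers (⟨a, haE⟩ : E)) :=
    IsPGroup.of_card (by rw [Nat.card_zpowers, Subgroup.orderOf_mk, hi])
  obtain ⟨Q, hQ⟩ := hz.exists_le_sylow
  obtain ⟨g, hg⟩ := MulAction.exists_smul_eq E P Q
  have hQP : (Q : Subgroup E) = P := by rw [← hg, Sylow.smul_eq_of_normal]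
  exact ⟨_, hQP ▸ hQ (mem_zpowers _), rfl⟩

omit [Finite G] in
/-- A finite subgroup is generated by its elements of prime power order. -/
theorem le_closure_isPP [Finite G] (E : Subgroup G) : E ≤ closure {x | x ∈ E ∧ IsPP x} := by
  classical
  set T := (closure {x | x ∈ E ∧ IsPP x}).subgroupOf E
  have hT : T.index = 1 := by
    by_contra hne
    obtain ⟨p, hp, hd⟩ := Nat.exists_prime_and_dvd hne
    haveI : Fact p.Prime := ⟨hp⟩
    obtain ⟨P⟩ : Nonempty (Sylow p E) := inferInstance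
    have hle : (P : Subgroup E) ≤ T := fun x hx => by
      obtain ⟨i, hi⟩ := IsPGroup.iff_orderOf.1 P.isPGroup' ⟨x, hx⟩
      rw [Subgroup.orderOf_mk] at hi
      exact subset_closure ⟨x.2, p, i, hp, (Subgroup.orderOf_coe x).trans hi⟩
    exact P.not_dvd_index (hd.trans (index_dvd_of_le hle))
  exact subgroupOf_eq_top.1 (index_eq_one.1 hT)

omit [Finite G] in
/-- Generators of a commutator subgroup. -/
theorem commutator_closure_le {H : Subgroup G} {S : Set G} (hSH : S ⊆ H)
    (hinv : ∀ s ∈ S, ∀ h ∈ H, h * s * h⁻¹ ∈ S) :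
    ⁅closure S, H⁆ ≤ closure {x | ∃ s ∈ S, ∃ h ∈ H, x = ⁅s, h⁆} := by
  set K := closure {x | ∃ s ∈ S, ∃ h ∈ H, x = ⁅s, h⁆}
  have hK : ∀ g ∈ H, ∀ x ∈ K, g * x * g⁻¹ ∈ K := by
    intro g hg x hx
    have hle : K ≤ K.comap (MulAut.conj g).toMonoidHom := (closure_le _).2 (by
      rintro _ ⟨s, hs, h, hh, rfl⟩
      refine subset_closure ⟨_, hinv s hs g hg, _, mul_mem (mul_mem hg hh) (inv_mem hg), ?_⟩
      simp [commutatorElement_def, mul_assoc])
    simpa using hle hx
  refine commutator_le.2 fun a ha => ?_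
  induction ha using closure_induction with
  | mem s hs => exact fun h hh => subset_closure ⟨s, hs, h, hh, rfl⟩
  | one => intro h _; simp
  | mul a b ha _ iha ihb =>
    intro h hh
    have haH : a ∈ H := (closure_le _).2 hSH ha
    have e : ⁅a * b, h⁆ = a * ⁅b, h⁆ * a⁻¹ * ⁅a, h⁆ := by simp [commutatorElement_def, mul_assoc]
    exact e ▸ mul_mem (hK a haH _ (ihb h hh)) (iha h hh)
  | inv a ha iha =>
    intro h hh
    have haH : a ∈ H := (closure_le _).2 hSH ha
    have e : ⁅a⁻¹, h⁆ = a⁻¹ * ⁅a, h⁆⁻¹ * a⁻¹⁻¹ := by simp [commutatorElement_def, mul_assoc]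
    exact e ▸ hK _ (inv_mem haH) _ (inv_mem (iha h hh))

/-- Iterated commutators `[E, H, …, H]`. -/
def iterC (E H : Subgroup G) : ℕ → Subgroup G
  | 0 => E
  | n + 1 => ⁅iterC E H n, H⁆

omit [Finite G] in
theorem iterC_self (S : Subgroup G) (n : ℕ) : iterC S S n = S.lowerCentralSeries n := by
  induction n with
  | zero => rfl
  | succ n ih => rw [iterC, ih, Subgroup.lowerCentralSeries_succ]

omit [Finite G] in
theorem iterC_fixed {E H : Subgroup G} (h : ⁅E, H⁆ = E) (n : ℕ) : iterC E H n = E := by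
  induction n with
  | zero => rfl
  | succ n ih => rw [iterC, ih, h]

/-- Iterated commutators of a nilpotent normal subgroup are generated by values of prime power order. -/
theorem iterC_le_closure {E : Subgroup G} [E.Normal] (hE : Group.IsNilpotent E) (j : ℕ) :
    (iterC E ⊤ j).Normal ∧ iterC E ⊤ j ≤ E ∧
      iterC E ⊤ j ≤ closure {x | x ∈ iterC E ⊤ j ∧ PPVal j x} := by
  induction j with
  | zero =>
    refine ⟨inferInstanceAs E.Normal, le_rfl, (le_closure_isPP E).trans (closure_mono ?_)⟩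
    exact fun x hx => ⟨hx.1, trivial, hx.2⟩
  | succ j ih =>
    obtain ⟨hn, hle, hcl⟩ := ih
    haveI := hn
    have hle' : iterC E ⊤ (j + 1) ≤ iterC E ⊤ j := commutator_le_left _ _
    refine ⟨commutator_normal _ _, hle'.trans hle, ?_⟩
    set S := {x | x ∈ iterC E ⊤ j ∧ PPVal j x}
    refine (commutator_mono hcl le_rfl).trans ((commutator_closure_le (fun x _ => mem_top x) ?_).trans ?_)
    · rintro s ⟨hs, hv, hpp⟩ h -
      refine ⟨hn.conj_mem s hs h, hv.conj h, ?_⟩
      simpa using isPP_map (MulAut.conj h).injective (f := (MulAut.conj h).toMonoidHom) hpp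
    · refine closure_mono ?_
      rintro x ⟨s, ⟨hs, hv, p, i, hp, hi⟩, h, -, rfl⟩
      haveI : Fact p.Prime := ⟨hp⟩
      refine ⟨commutator_mem_commutator hs (mem_top h), ⟨s, h, hv, rfl⟩, ?_⟩
      have hconj : orderOf (h * s⁻¹ * h⁻¹) = p ^ i := by
        rw [show h * s⁻¹ * h⁻¹ = MulAut.conj h s⁻¹ by simp,
          (MulAut.conj h).orderOf_eq, orderOf_inv, hi]
      have hA : IsPGroup p (closure ({s, h * s⁻¹ * h⁻¹} : Set G)) := by
        refine isPGroup_closure_of_nilpotent hE ?_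
        rintro a (rfl | rfl)
        · exact ⟨hle hs, i, hi⟩
        · exact ⟨(inferInstance : E.Normal).conj_mem _ (inv_mem (hle hs)) h, i, hconj⟩
      have hmem : ⁅s, h⁆ ∈ closure ({s, h * s⁻¹ * h⁻¹} : Set G) := by
        rw [commutatorElement_def, show s * h * s⁻¹ * h⁻¹ = s * (h * s⁻¹ * h⁻¹) by group]
        exact mul_mem (subset_closure (Or.inl rfl)) (subset_closure (Or.inr rfl))
      obtain ⟨n, hn'⟩ := IsPGroup.iff_orderOf.1 hA ⟨_, hmem⟩
      exact ⟨p, n, hp, by rwa [Subgroup.orderOf_mk] at hn'⟩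

/-- A nilpotent normal subgroup together with values of prime power order. -/
theorem sup_nilpotent {k : ℕ} (hC : Cond G k) {X Y : Subgroup G} [X.Normal] (hX : Group.IsNilpotent X)
    (hY : Group.IsNilpotent Y) (hgen : Y ≤ closure {x | x ∈ Y ∧ PPVal k x}) :
    Group.IsNilpotent ↥(X ⊔ Y) := by
  classical
  set A : Set G := {x | x ∈ X ∧ IsPP x} ∪ {x | x ∈ Y ∧ PPVal k x}
  let Xp : ℕ → Subgroup G := fun p => closure {x | x ∈ X ∧ ∃ i, orderOf x = p ^ i}
  let Yp : ℕ → Subgroup G := fun p => closure {x | x ∈ Y ∧ ∃ i, orderOf x = p ^ i}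
  have hXp : ∀ p, p.Prime → IsPGroup p (Xp p) := fun p hp =>
    haveI : Fact p.Prime := ⟨hp⟩
    isPGroup_closure_of_nilpotent hX fun a ha => ha
  have hYp : ∀ p, p.Prime → IsPGroup p (Yp p) := fun p hp =>
    haveI : Fact p.Prime := ⟨hp⟩
    isPGroup_closure_of_nilpotent hY fun a ha => ha
  have hXn : ∀ p, (Xp p).Normal := fun p => ⟨fun x hx g => by
    have hle : Xp p ≤ (Xp p).comap (MulAut.conj g).toMonoidHom := (closure_le _).2 (by
      rintro a ⟨ha, i, hi⟩
      refine subset_closure ⟨(inferInstance : X.Normal).conj_mem a ha g, i, ?_⟩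
      exact ((MulAut.conj g).orderOf_eq a).trans hi)
    simpa using hle hx⟩
  let PA : ℕ → Subgroup G := fun p => closure {x | x ∈ A ∧ ∃ i, orderOf x = p ^ i}
  have hPA : ∀ p, p.Prime → IsPGroup p (PA p) := fun p hp => by
    haveI : Fact p.Prime := ⟨hp⟩
    haveI := hXn p
    refine IsPGroup.to_le ((hXp p hp).to_sup_of_normal_left (hYp p hp)) ((closure_le _).2 ?_)
    rintro a ⟨ha | ha, hi⟩
    · exact mem_sup_left (subset_closure ⟨ha.1, hi⟩)
    · exact mem_sup_right (subset_closure ⟨ha.1, hi⟩)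
  have hnilc : ∀ {Z : Subgroup G}, Group.IsNilpotent Z → ∀ {p q i j : ℕ}, p.Prime → q.Prime → p ≠ q →
      ∀ {a b : G}, a ∈ Z → b ∈ Z → orderOf a = p ^ i → orderOf b = q ^ j → Commute a b := by
    intro Z hZ p q i j hp hq hpq a b ha hb hai hbj
    haveI := hZ
    haveI : Fact p.Prime := ⟨hp⟩
    haveI : Fact q.Prime := ⟨hq⟩
    obtain ⟨P⟩ : Nonempty (Sylow p Z) := inferInstance
    obtain ⟨Q⟩ : Nonempty (Sylow q Z) := inferInstance
    have hmem : ∀ {r n : ℕ} [Fact r.Prime] (R : Sylow r Z) {c : Z}, orderOf c = r ^ n → c ∈ (R : Subgroup Z) := by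
      intro r n _ R c hc
      obtain ⟨R', hR'⟩ := (IsPGroup.of_card (p := r) (G := zpowers c) (by rw [Nat.card_zpowers, hc])).exists_le_sylow
      obtain ⟨g, hg⟩ := MulAction.exists_smul_eq Z R R'
      haveI : (R : Subgroup Z).Normal := inferInstance
      rw [Sylow.smul_eq_of_normal] at hg
      exact hg ▸ hR' (mem_zpowers c)
    have h := commute_of_normal_of_disjoint (P : Subgroup Z) (Q : Subgroup Z) inferInstance inferInstance
      (IsPGroup.disjoint_of_ne p q hpq _ _ P.isPGroup' Q.isPGroup') ⟨a, ha⟩ ⟨b, hb⟩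
      (hmem P (by rw [Subgroup.orderOf_mk, hai])) (hmem Q (by rw [Subgroup.orderOf_mk, hbj]))
    exact congrArg Subtype.val h
  have hmix : ∀ {p q i j : ℕ}, p.Prime → q.Prime → p ≠ q → ∀ {a b : G}, a ∈ X → (b ∈ Y ∧ PPVal k b) →
      orderOf a = p ^ i → orderOf b = q ^ j → Commute a b := by
    intro p q i j hp hq hpq a b ha hb hai hbj
    haveI : Fact p.Prime := ⟨hp⟩
    refine centralize hC hb.2.1 ?_ (hXp p hp) (fun u hu => (hXn p).conj_mem u hu b) (subset_closure ⟨ha, i, hai⟩)
    rw [hbj]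
    exact fun h => hpq ((Nat.prime_dvd_prime_iff_eq hp hq).1 (hp.dvd_of_dvd_pow h))
  have hcomm : ∀ {p q i j : ℕ}, p.Prime → q.Prime → p ≠ q → ∀ {a b : G}, a ∈ A → b ∈ A →
      orderOf a = p ^ i → orderOf b = q ^ j → Commute a b := by
    rintro p q i j hp hq hpq a b (ha | ha) (hb | hb) hai hbj
    · exact hnilc hX hp hq hpq ha.1 hb.1 hai hbj
    · exact hmix hp hq hpq ha.1 hb hai hbj
    · exact (hmix hq hp (Ne.symm hpq) hb.1 ha hbj hai).symm
    · exact hnilc hY hp hq hpq ha.1 hb.1 hai hbj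
  have hJ : X ⊔ Y = closure A := by
    refine le_antisymm (sup_le ((le_closure_isPP X).trans (closure_mono Set.subset_union_left))
      (hgen.trans (closure_mono Set.subset_union_right))) ((closure_le _).2 ?_)
    rintro a (ha | ha)
    exacts [mem_sup_left ha.1, mem_sup_right ha.1]
  rw [hJ]
  set J := closure A
  have htop : Cfsg.fittingSubgroup ↥J = ⊤ := by
    refine eq_top_iff.2 ((closure_closure_coe_preimage (k := A)).ge.trans ((closure_le _).2 ?_))
    intro a ha
    obtain ⟨p, i, hp, hai⟩ : IsPP (a : G) := ha.elim (fun h => h.2) fun h => h.2.2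
    haveI : Fact p.Prime := ⟨hp⟩
    have hPJ : PA p ≤ J := (closure_le _).2 fun x hx => subset_closure hx.1
    haveI : ((PA p).subgroupOf J).Normal := by
      refine normal_subgroupOf_of_le_normalizer ((closure_le _).2 fun b hb => ?_)
      obtain ⟨q, j, hq, hbj⟩ : IsPP b := hb.elim (fun h => h.2) fun h => h.2.2
      by_cases hqp : q = p
      · subst hqp; exact le_normalizer (subset_closure ⟨hb, j, hbj⟩)
      · refine centralizer_le_normalizer _ ?_
        rw [centralizer_closure]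
        rintro c ⟨hc, l, hcl⟩
        exact hcomm hp hq (Ne.symm hqp) hc hb hcl hbj
    exact Cores.le_fittingSubgroup (((hPA p hp).of_equiv (subgroupOfEquivOfLe hPJ).symm).isNilpotent)
      (subset_closure ⟨ha, i, hai⟩ : (a : G) ∈ PA p)
  have := Cores.isNilpotent_fittingSubgroup (G := ↥J)
  rw [htop] at this
  exact Group.isNilpotent_top.1 this

end CfsgLib.PGroup.CoprimeValues
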