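import Mathlib
import Cfsg.Agent.S0116
import Cfsg.Agent.S0205
import Cfsg.Agent.Lib.Invol.ZStarFinal
import Cfsg.Agent.Lib.Invol.Isolated
import Cfsg.Agent.Lib.Cores.Basic

/-!
In a non-abelian simple group some element of odd order acts nontrivially on an elementary abelian
`2`-subgroup (Alperin fusion and the `Z*`-theorem).
-/

set_option autoImplicit false
set_option linter.unusedVariables false

namespace CfsgLib.PGroup.CoprimeValues

open Subgroup

variable {Q : Type*} [Group Q] [Finite Q]

theorem exists_odd_action [IsSimpleGroup Q] (hna : ¬ ∀ a b : Q, a * b = b * a) :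
    ∃ (E : Subgroup Q) (b : Q) (v : Q), (∀ u ∈ E, u * u = 1) ∧ (∀ u ∈ E, ∀ w ∈ E, u * w = w * u) ∧
      Odd (orderOf b) ∧ (∀ u ∈ E, b * u * b⁻¹ ∈ E) ∧ v ∈ E ∧ ¬ Commute v b := by
  by_contra hno
  have hev : ¬ Odd (Nat.card Q) := fun h => hna fun a b =>
    IsSimpleGroup.comm_iff_isSolvable.2 (Cfsg.Agent.S0205.result h) a b
  haveI : Fact (Nat.Prime 2) := ⟨Nat.prime_two⟩
  obtain ⟨P⟩ : Nonempty (Sylow 2 Q) := inferInstance
  obtain ⟨n, hn⟩ := P.isPGroup'.exists_card_eq
  have hPnt : Nontrivial (P : Subgroup Q) := by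
    rw [← Finite.one_lt_card_iff_nontrivial]
    by_contra hle
    have h1 : Nat.card (P : Subgroup Q) = 1 := le_antisymm (not_lt.1 hle) Nat.card_pos
    have h2 := (P : Subgroup Q).card_mul_index
    rw [h1, one_mul] at h2
    refine hev ?_
    rw [← h2, ← Nat.not_even_iff_odd, even_iff_two_dvd]
    exact P.not_dvd_index
  haveI := P.isPGroup'.center_nontrivial
  obtain ⟨m, hm⟩ := (P.isPGroup'.to_subgroup (center (P : Subgroup Q))).exists_card_eq
  have h2c : 2 ∣ Nat.card (center (P : Subgroup Q)) := by
    refine hm ▸ dvd_pow_self 2 ?_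
    rintro rfl
    have := Finite.one_lt_card_iff_nontrivial.2 (inferInstance : Nontrivial (center (P : Subgroup Q)))
    omega
  obtain ⟨⟨⟨z, hzP⟩, hzZ⟩, hz2⟩ := exists_prime_orderOf_dvd_card' (G := center (P : Subgroup Q)) 2 h2c
  rw [Subgroup.orderOf_mk, Subgroup.orderOf_mk] at hz2
  have hzc : ∀ u ∈ (P : Subgroup Q), u * z = z * u := fun u hu =>
    congrArg Subtype.val (mem_center_iff.1 hzZ ⟨u, hu⟩)
  have hstep : ∀ R : Sylow 2 Q, z ∈ ((P : Subgroup Q) ⊓ R) →
      ∀ x ∈ normalizer ((((P : Subgroup Q) ⊓ R : Subgroup Q)) : Set Q),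
      ¬ 2 ∣ ((P : Subgroup Q) ⊓ normalizer ((((P : Subgroup Q) ⊓ R : Subgroup Q)) : Set Q)).relIndex
          (normalizer ((((P : Subgroup Q) ⊓ R : Subgroup Q)) : Set Q)) →
      x * z = z * x := by
    intro R hzI x hx htame
    set I := (P : Subgroup Q) ⊓ R with hI
    set T := normalizer (I : Set Q) with hT
    have hodd : ∀ b ∈ T, Odd (orderOf b) → b * z = z * b := by
      intro b hb hbo
      by_contra hbz
      refine hno ⟨{ carrier := {u | u ∈ I ∧ (∀ w ∈ I, w * u = u * w) ∧ u * u = 1}
                    one_mem' := ⟨one_mem _, fun w _ => by simp, by simp⟩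
                    inv_mem' := fun {u} hu => by
                      have : u⁻¹ = u := inv_eq_of_mul_eq_one_right hu.2.2
                      rw [this]; exact hu
                    mul_mem' := fun {u v} hu hv => ⟨mul_mem hu.1 hv.1, fun w hw => by
                        rw [← mul_assoc, hu.2.1 w hw, mul_assoc, hv.2.1 w hw, mul_assoc],
                      by
                        have h := hu.2.1 v hv.1
                        calc u * v * (u * v) = u * (v * u) * v := by group
                          _ = u * (u * v) * v := by rw [h]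
                          _ = (u * u) * (v * v) := by group
                          _ = 1 := by rw [hu.2.2, hv.2.2, one_mul]⟩ },
        b, z, fun u hu => hu.2.2, fun u hu w hw => hw.2.1 u hu.1, hbo, ?_,
        ⟨hzI, fun w hw => hzc w hw.1, by rw [← sq, ← hz2, pow_orderOf_eq_one]⟩, fun h => hbz h.symm.eq⟩
      rintro u ⟨hu, huc, hu2⟩
      refine ⟨(mem_normalizer_iff.1 hb u).1 hu, fun w hw => ?_, ?_⟩
      · have hw' : b⁻¹ * w * b ∈ I := by
          have := (mem_normalizer_iff.1 hb (b⁻¹ * w * b)).2 (by simpa [mul_assoc] using hw)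
          exact this
        have h := huc _ hw'
        calc w * (b * u * b⁻¹) = b * ((b⁻¹ * w * b) * u) * b⁻¹ := by group
          _ = b * (u * (b⁻¹ * w * b)) * b⁻¹ := by rw [h]
          _ = b * u * b⁻¹ * w := by group
      · calc b * u * b⁻¹ * (b * u * b⁻¹) = b * (u * u) * b⁻¹ := by group
          _ = 1 := by rw [hu2]; group
    set C := centralizer ({z} : Set Q) with hCdef
    have hCmem : ∀ u, u * z = z * u → u ∈ C := fun u hu => mem_centralizer_singleton_iff.2 hu
    have h2 : ¬ 2 ∣ (C.subgroupOf T).index := fun h => htame (h.trans (by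
      rw [relIndex]
      exact index_dvd_of_le fun u hu => hCmem _ (hzc _ hu.1)))
    have htop : C.subgroupOf T = ⊤ := by
      rw [← index_eq_one]
      by_contra hne
      obtain ⟨q, hq, hd⟩ := Nat.exists_prime_and_dvd hne
      rcases eq_or_ne q 2 with rfl | hq2
      · exact h2 hd
      haveI : Fact q.Prime := ⟨hq⟩
      obtain ⟨S⟩ : Nonempty (Sylow q T) := inferInstance
      refine S.not_dvd_index (hd.trans (index_dvd_of_le fun u hu => hCmem _ (hodd _ u.2 ?_)))
      obtain ⟨i, hi⟩ := IsPGroup.iff_orderOf.1 S.isPGroup' ⟨u, hu⟩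
      rw [Subgroup.orderOf_mk] at hi
      have e : orderOf ((u : T) : Q) = q ^ i := (Subgroup.orderOf_coe u).trans hi
      exact (e ▸ (hq.odd_of_ne_two hq2).pow : Odd (orderOf ((u : T) : Q)))
    exact mem_centralizer_singleton_iff.1 (subgroupOf_eq_top.1 htop hx)
  have hiso : Cfsg.IsIsolatedInvolution z := by
    refine CfsgLib.Invol.isolated_of_sylow P hz2 hzP fun g hg => ?_
    obtain ⟨n, R, x, hprod, htame, h0, hnext⟩ := Cfsg.Agent.S0116.result P {z} g⁻¹
      (Set.singleton_subset_iff.2 hzP) (by rw [Set.image_singleton, Set.singleton_subset_iff, inv_inv]; exact hg)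
    have hind : ∀ i, i ≤ n → ((List.ofFn x).take i).prod * z = z * ((List.ofFn x).take i).prod := by
      intro i
      induction i with
      | zero => intro _; simp
      | succ i ih =>
        intro hi
        have hprev := ih (by omega)
        have hzI : z ∈ (P : Subgroup Q) ⊓ (R ⟨i, by omega⟩ : Subgroup Q) := by
          rcases Nat.eq_zero_or_pos i with rfl | hipos
          · exact h0 (by omega) rfl
          · obtain ⟨j, rfl⟩ : ∃ j, i = j + 1 := ⟨i - 1, by omega⟩
            refine hnext ⟨j, by omega⟩ (by simp only; omega) ⟨z, rfl, ?_⟩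
            simp only
            rw [mul_assoc, ← hprev, inv_mul_cancel_left]
        have hx := hstep _ hzI (x ⟨i, by omega⟩) (htame ⟨i, by omega⟩).1 (htame ⟨i, by omega⟩).2.1
        rw [List.prod_take_succ (List.ofFn x) i (by simp; omega), List.getElem_ofFn, mul_assoc, hx,
          ← mul_assoc, hprev, mul_assoc]
    have := hind n le_rfl
    rw [List.take_of_length_le (by simp), hprod] at this
    calc g * z * g⁻¹ = g * (z * g⁻¹) := by group
      _ = g * (g⁻¹ * z) := by rw [this]
      _ = z := by group
  have hO : Cfsg.oddCore Q = ⊥ := by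
    have hn : (Cfsg.oddCore Q).Normal := Subgroup.sSup_normal _ fun _ h => h.1
    rcases hn.eq_bot_or_eq_top with h | h
    · exact h
    · have := CfsgLib.Cores.odd_card_oddCore (G := Q)
      rw [h, card_top] at this
      exact absurd this hev
  have hzZ' := CfsgLib.Invol.zstar_center hiso hO
  rcases (inferInstance : (center Q).Normal).eq_bot_or_eq_top with h | h
  · rw [h, mem_bot] at hzZ'
    rw [hzZ', orderOf_one] at hz2
    omega
  · exact hna fun a b => mem_center_iff.1 (h ▸ mem_top b) a

end CfsgLib.PGroup.CoprimeValues
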