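import Mathlib
import Cfsg.Agent.Lib.PGroup.CoprimeValues.Basic
import Cfsg.Agent.Lib.PGroup.CoprimeValues.Existence
import Cfsg.Agent.Lib.Invol.BaerSuzuki
import Cfsg.Agent.Lib.Solvable.Nilpotent
import Cfsg.Agent.Lib.OddLocal.Basic

/-!
The coprime product condition forces a nilpotent term of the lower central series.
-/

set_option autoImplicit false
set_option linter.unusedVariables false

namespace CfsgLib.PGroup.CoprimeValues

open Subgroup
open scoped commutatorElement

universe u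

variable {G : Type u} [Group G] {k : ℕ}

theorem nilpotent_of_le {A B : Subgroup G} (hAB : A ≤ B) (hB : Group.IsNilpotent B) :
    Group.IsNilpotent A :=
  haveI := hB
  Group.nilpotent_of_mulEquiv (subgroupOfEquivOfLe hAB)

/-- Transport of generation along an injective map. -/
theorem gen_map {H : Type*} [Group H] {f : H →* G} (hf : Function.Injective f) {X : Subgroup H}
    (h : X ≤ closure {x | x ∈ X ∧ PPVal k x}) :
    X.map f ≤ closure {x | x ∈ X.map f ∧ PPVal k x} := by
  refine (map_mono h).trans ?_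
  rw [MonoidHom.map_closure]
  refine closure_mono ?_
  rintro _ ⟨x, ⟨hx, hv, hp⟩, rfl⟩
  exact ⟨⟨x, hx, rfl⟩, hv.map f, isPP_map hf hp⟩

variable [Finite G]

theorem exists_stable (S : Subgroup G) (m : ℕ) :
    ∃ N, m ≤ N ∧ ⁅S.lowerCentralSeries N, S⁆ = S.lowerCentralSeries N := by
  by_contra h
  push Not at h
  have key : ∀ j, Nat.card (S.lowerCentralSeries (m + j)) + j ≤ Nat.card (S.lowerCentralSeries m) := by
    intro j
    induction j with
    | zero => simp
    | succ j ih =>
      have hle : S.lowerCentralSeries (m + j + 1) ≤ S.lowerCentralSeries (m + j) :=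
        S.lowerCentralSeries_antitone (Nat.le_succ _)
      have hlt : Nat.card (S.lowerCentralSeries (m + j + 1)) < Nat.card (S.lowerCentralSeries (m + j)) := by
        refine lt_of_le_of_ne (card_le_of_le hle) fun he => h (m + j) (Nat.le_add_right _ _) ?_
        rw [← Subgroup.lowerCentralSeries_succ]
        exact eq_of_le_of_card_ge hle he.ge
      show Nat.card (S.lowerCentralSeries (m + j + 1)) + (j + 1) ≤ _
      omega
  have := key (Nat.card (S.lowerCentralSeries m) + 1)
  omega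

theorem stable_ge {S : Subgroup G} {N : ℕ} (h : ⁅S.lowerCentralSeries N, S⁆ = S.lowerCentralSeries N) :
    ∀ {M : ℕ}, N ≤ M → S.lowerCentralSeries M = S.lowerCentralSeries N := by
  intro M hM
  induction M, hM using Nat.le_induction with
  | base => rfl
  | succ M _ ih => rw [Subgroup.lowerCentralSeries_succ, ih, h]

omit [Finite G] in
theorem lcs_le_sup {B M : Subgroup G} [B.Normal] (h : B ⊔ M = ⊤) (j : ℕ) :
    (⊤ : Subgroup G).lowerCentralSeries j ≤ B ⊔ M.lowerCentralSeries j := by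
  have hker : B.map (QuotientGroup.mk' B) = ⊥ := by
    rw [Subgroup.map_eq_bot_iff, QuotientGroup.ker_mk']
  have hM : M.map (QuotientGroup.mk' B) = (⊤ : Subgroup G).map (QuotientGroup.mk' B) := by
    rw [← h, Subgroup.map_sup, hker, bot_sup_eq]
  have e : ((⊤ : Subgroup G).lowerCentralSeries j).map (QuotientGroup.mk' B) =
      (M.lowerCentralSeries j).map (QuotientGroup.mk' B) := by
    rw [Subgroup.map_lowerCentralSeries, Subgroup.map_lowerCentralSeries, hM]
  have := le_comap_map (QuotientGroup.mk' B) ((⊤ : Subgroup G).lowerCentralSeries j)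
  rw [e, comap_map_eq, QuotientGroup.ker_mk', sup_comm] at this
  exact this

theorem frattini_dichotomy (B : Subgroup G) : B ≤ frattini G ∨ ∃ M : Subgroup G, M ≠ ⊤ ∧ B ⊔ M = ⊤ := by
  by_cases h : ∀ M : Subgroup G, IsCoatom M → B ≤ M
  · exact Or.inl (le_iInf₂ h)
  · push Not at h
    obtain ⟨M, hM, hB⟩ := h
    exact Or.inr ⟨M, hM.1, hM.2 _ (lt_of_le_of_ne le_sup_right fun e => hB (e ▸ le_sup_left))⟩

/-- The induction hypothesis. -/
def Good (k : ℕ) (H : Subgroup G) : Prop :=
  Group.IsNilpotent (H.lowerCentralSeries k) ∧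
    H.lowerCentralSeries k ≤ closure {x | x ∈ H.lowerCentralSeries k ∧ PPVal k x}

theorem fixed_gen {E : Subgroup G} [E.Normal] (hE : Group.IsNilpotent E) (h : ⁅E, (⊤ : Subgroup G)⁆ = E) :
    E ≤ closure {x | x ∈ E ∧ PPVal k x} := by
  have := (iterC_le_closure hE k).2.2
  rwa [iterC_fixed h] at this

theorem fixed_gen_sub {M : Subgroup G} {N : ℕ}
    (hnil : Group.IsNilpotent (M.lowerCentralSeries N))
    (h : ⁅M.lowerCentralSeries N, M⁆ = M.lowerCentralSeries N) :
    M.lowerCentralSeries N ≤ closure {x | x ∈ M.lowerCentralSeries N ∧ PPVal k x} := by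
  haveI := hnil
  have e := Subgroup.top_subtype_lowerCentralSeries M N
  have hn' : Group.IsNilpotent ((⊤ : Subgroup M).lowerCentralSeries N) :=
    Group.nilpotent_of_mulEquiv ((MulEquiv.subgroupCongr e).symm.trans
      (equivMapOfInjective _ M.subtype M.subtype_injective).symm)
  have hfix : ⁅(⊤ : Subgroup M).lowerCentralSeries N, (⊤ : Subgroup M)⁆ =
      (⊤ : Subgroup M).lowerCentralSeries N := by
    refine map_injective M.subtype_injective ?_
    rw [map_commutator, e, ← MonoidHom.range_eq_map, Subgroup.range_subtype]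
    exact h
  have := gen_map (k := k) M.subtype_injective (fixed_gen hn' hfix)
  rwa [e] at this

theorem residual_nilpotent (hC : Cond G k) (hIH : ∀ H : Subgroup G, H ≠ ⊤ → Good k H) {N : ℕ}
    (hkN : k ≤ N) (hfix : ⁅(⊤ : Subgroup G).lowerCentralSeries N, (⊤ : Subgroup G)⁆ =
      (⊤ : Subgroup G).lowerCentralSeries N)
    (hne : (⊤ : Subgroup G).lowerCentralSeries N ≠ ⊤) :
    Group.IsNilpotent ((⊤ : Subgroup G).lowerCentralSeries N) := by
  set D := (⊤ : Subgroup G).lowerCentralSeries N with hD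
  obtain ⟨N₂, hN₂, h₂⟩ := exists_stable D k
  set D₂ := D.lowerCentralSeries N₂ with hD₂
  have hD₂nil : Group.IsNilpotent D₂ := nilpotent_of_le (D.lowerCentralSeries_antitone hN₂) (hIH D hne).1
  rcases frattini_dichotomy D₂ with hΦ | ⟨M, hM, hsup⟩
  · refine CfsgLib.Solvable.isNilpotent_of_quotient_frattini D D₂ (D.lowerCentralSeries_le_self _) hΦ ?_
    refine Subgroup.nilpotent_iff_lowerCentralSeries.2 ⟨N₂, ?_⟩
    rw [← Subgroup.map_top_of_surjective _ (QuotientGroup.mk'_surjective (D₂.subgroupOf D)),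
      ← Subgroup.map_lowerCentralSeries, Subgroup.map_eq_bot_iff, QuotientGroup.ker_mk']
    intro x hx
    rw [mem_subgroupOf, hD₂, ← Subgroup.top_subtype_lowerCentralSeries]
    exact ⟨x, hx, rfl⟩
  · obtain ⟨N₃, hN₃, h₃⟩ := exists_stable M N
    have hEnil : Group.IsNilpotent (M.lowerCentralSeries N₃) :=
      nilpotent_of_le (M.lowerCentralSeries_antitone (hkN.trans hN₃)) (hIH M hM).1
    refine nilpotent_of_le ?_ (sup_nilpotent hC (X := D₂) hD₂nil hEnil (fixed_gen_sub hEnil h₃))
    exact (stable_ge hfix hN₃).ge.trans (lcs_le_sup hsup N₃)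

theorem good_of_residual_nilpotent (hC : Cond G k) (hIH : ∀ H : Subgroup G, H ≠ ⊤ → Good k H) {N : ℕ}
    (hkN : k ≤ N) (hfix : ⁅(⊤ : Subgroup G).lowerCentralSeries N, (⊤ : Subgroup G)⁆ =
      (⊤ : Subgroup G).lowerCentralSeries N)
    (hnil : Group.IsNilpotent ((⊤ : Subgroup G).lowerCentralSeries N)) :
    Good k (⊤ : Subgroup G) := by
  set D := (⊤ : Subgroup G).lowerCentralSeries N with hD
  rcases frattini_dichotomy D with hΦ | ⟨M, hM, hsup⟩
  · have hG : Group.IsNilpotent (⊤ : Subgroup G) := by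
      refine CfsgLib.Solvable.isNilpotent_of_quotient_frattini ⊤ D le_top hΦ ?_
      refine Subgroup.nilpotent_iff_lowerCentralSeries.2 ⟨N, ?_⟩
      rw [← Subgroup.map_top_of_surjective _ (QuotientGroup.mk'_surjective (D.subgroupOf ⊤)),
        ← Subgroup.map_lowerCentralSeries, Subgroup.map_eq_bot_iff, QuotientGroup.ker_mk']
      intro x hx
      rw [mem_subgroupOf, hD, ← Subgroup.top_subtype_lowerCentralSeries]
      exact ⟨x, hx, rfl⟩
    refine ⟨nilpotent_of_le le_top hG, ?_⟩
    have := (iterC_le_closure (E := (⊤ : Subgroup G)) hG k).2.2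
    rwa [iterC_self] at this
  · have hDk : D ≤ (⊤ : Subgroup G).lowerCentralSeries k :=
      (⊤ : Subgroup G).lowerCentralSeries_antitone hkN
    have hMk : M.lowerCentralSeries k ≤ (⊤ : Subgroup G).lowerCentralSeries k :=
      Subgroup.lowerCentralSeries_mono k le_top
    refine ⟨nilpotent_of_le (lcs_le_sup hsup k)
      (sup_nilpotent hC (X := D) hnil (hIH M hM).1 (hIH M hM).2), ?_⟩
    exact (lcs_le_sup hsup k).trans (sup_le
      ((fixed_gen (k := k) hnil hfix).trans (closure_mono fun x hx => ⟨hDk hx.1, hx.2⟩))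
      ((hIH M hM).2.trans (closure_mono fun x hx => ⟨hMk hx.1, hx.2⟩)))

theorem isPGroup_closure_values (hC : Cond G k) (hIH : ∀ H : Subgroup G, H ≠ ⊤ → Good k H)
    {p : ℕ} [hp : Fact p.Prime] {C : Set G}
    (hCv : ∀ c ∈ C, IsVal k c ∧ ∃ i, orderOf c = p ^ i) (hne : closure C ≠ ⊤) :
    IsPGroup p (closure C) := by
  set N := closure C with hN
  obtain ⟨M, hM, hfix⟩ := exists_stable N k
  set E := N.lowerCentralSeries M with hE
  have hEnil : Group.IsNilpotent E := nilpotent_of_le (N.lowerCentralSeries_antitone hM) (hIH N hne).1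
  have hEN : E ≤ N := N.lowerCentralSeries_le_self M
  have hnorm : ∀ h ∈ N, ∀ e ∈ E, h * e * h⁻¹ ∈ E := fun h hh e he =>
    (mem_normalizer_iff.1 (N.self_le_normalizer_lowerCentralSeries M hh) e).1 he
  set A : Set G := {x | x ∈ E ∧ ∃ i, orderOf x = p ^ i} with hA
  have hconjord : ∀ (g x : G), orderOf (g * x * g⁻¹) = orderOf x := fun g x =>
    orderOf_injective (MulAut.conj g).toMonoidHom (MulAut.conj g).injective x
  have hEp : E ≤ closure A := by
    rw [← hfix]
    refine (commutator_mono (le_closure_isPP E) le_rfl).trans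
      ((commutator_closure_le (fun x hx => hEN hx.1) ?_).trans ((closure_le _).2 ?_))
    · rintro s ⟨hs, q, i, hq, hi⟩ h hh
      exact ⟨hnorm h hh s hs, q, i, hq, (hconjord h s).trans hi⟩
    · rintro _ ⟨s, ⟨hs, q, i, hq, hi⟩, h, hh, rfl⟩
      by_cases hqp : q = p
      · subst hqp
        rw [commutatorElement_def, show s * h * s⁻¹ * h⁻¹ = s * (h * s⁻¹ * h⁻¹) by group]
        exact mul_mem (subset_closure ⟨hs, i, hi⟩) (subset_closure
          ⟨hnorm h hh _ (inv_mem hs), i, (hconjord h _).trans ((orderOf_inv s).trans hi)⟩)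
      · have : N ≤ centralizer ({s} : Set G) := (closure_le _).2 fun c hc => by
          haveI : Fact q.Prime := ⟨hq⟩
          obtain ⟨hv, j, hj⟩ := hCv c hc
          refine mem_centralizer_singleton_iff.2 (centralize hC hv (p := q) ?_
            (isPGroup_closure_of_nilpotent hEnil (A := {x | x ∈ E ∧ ∃ i, orderOf x = q ^ i}) fun a ha => ha)
            ?_ (subset_closure ⟨hs, i, hi⟩)).symm.eq
          · rw [hj]
            exact fun h => hqp ((Nat.prime_dvd_prime_iff_eq hq hp.out).1 (hq.dvd_of_dvd_pow h))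
          · intro u hu
            have hle : closure {x | x ∈ E ∧ ∃ i, orderOf x = q ^ i} ≤
                (closure {x | x ∈ E ∧ ∃ i, orderOf x = q ^ i}).comap (MulAut.conj c).toMonoidHom :=
              (closure_le _).2 fun a ⟨ha, l, hl⟩ =>
                subset_closure ⟨hnorm c (subset_closure hc) a ha, l, (hconjord c a).trans hl⟩
            exact hle hu
        rw [commutatorElement_eq_one_iff_commute.2 (mem_centralizer_singleton_iff.1 (this hh)).symm]
        exact one_mem _
  have hEP : IsPGroup p E :=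
    (isPGroup_closure_of_nilpotent hEnil (A := A) fun a ha => ha).to_le hEp
  haveI : (E.subgroupOf N).Normal :=
    normal_subgroupOf_of_le_normalizer (N.self_le_normalizer_lowerCentralSeries M)
  have hnilQ : Group.IsNilpotent (⊤ : Subgroup (N ⧸ E.subgroupOf N)) := by
    rw [Subgroup.isNilpotent_iff_lowerCentralSeries]
    refine ⟨M, ?_⟩
    rw [← Subgroup.map_top_of_surjective _ (QuotientGroup.mk'_surjective (E.subgroupOf N)),
      ← Subgroup.map_lowerCentralSeries, Subgroup.map_eq_bot_iff, QuotientGroup.ker_mk']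
    intro x hx
    rw [mem_subgroupOf, hE, ← Subgroup.top_subtype_lowerCentralSeries]
    exact ⟨x, hx, rfl⟩
  have hQ := isPGroup_closure_of_nilpotent (p := p) hnilQ
    (A := QuotientGroup.mk' (E.subgroupOf N) '' ((↑) ⁻¹' C : Set N)) (by
      rintro _ ⟨c, hc, rfl⟩
      obtain ⟨-, i, hi⟩ := hCv _ hc
      refine ⟨mem_top _, ?_⟩
      obtain ⟨j, -, hj⟩ := (Nat.dvd_prime_pow hp.out).1 ((orderOf_map_dvd (QuotientGroup.mk' (E.subgroupOf N)) c).trans
        (((Subgroup.orderOf_coe c).symm.trans hi).dvd))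
      exact ⟨j, hj⟩)
  rw [← MonoidHom.map_closure, closure_closure_coe_preimage, Subgroup.map_top_of_surjective _ (QuotientGroup.mk'_surjective _)] at hQ
  intro x
  obtain ⟨a, ha⟩ := hQ ⟨QuotientGroup.mk' _ x, mem_top _⟩
  have hxE : x ^ p ^ a ∈ E.subgroupOf N := by
    rw [← QuotientGroup.ker_mk' (E.subgroupOf N), MonoidHom.mem_ker, map_pow]
    exact congrArg Subtype.val ha
  obtain ⟨b, hb⟩ := hEP ⟨_, mem_subgroupOf.1 hxE⟩
  refine ⟨a + b, Subtype.ext ?_⟩
  rw [pow_add, pow_mul, SubmonoidClass.coe_pow]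
  exact congrArg Subtype.val hb

theorem not_perfect (hC : Cond G k) (hIH : ∀ H : Subgroup G, H ≠ ⊤ → Good k H) [Nontrivial G]
    (hperf : ⁅(⊤ : Subgroup G), (⊤ : Subgroup G)⁆ = ⊤) : False := by
  classical
  haveI : Fact (Nat.Prime 2) := ⟨Nat.prime_two⟩
  haveI : Nonempty {R : Subgroup G // R.Normal ∧ R ≠ ⊤} := ⟨⟨⊥, inferInstance, bot_ne_top⟩⟩
  obtain ⟨⟨R, hRn, hRne⟩, hmax⟩ :=
    Finite.exists_max fun R : {R : Subgroup G // R.Normal ∧ R ≠ ⊤} => Nat.card R.1
  haveI := hRn
  simp only at hmax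
  have hsurj := QuotientGroup.mk'_surjective R
  set π := QuotientGroup.mk' R with hπ
  haveI : Nontrivial (G ⧸ R) := QuotientGroup.nontrivial_iff.2 hRne
  haveI : IsSimpleGroup (G ⧸ R) := ⟨fun K hK => by
    by_contra hcon
    push Not at hcon
    obtain ⟨h1, h2⟩ := hcon
    have hle : R ≤ K.comap π := by
      intro x hx
      rw [mem_comap, show π x = 1 from (QuotientGroup.eq_one_iff x).2 hx]
      exact one_mem K
    have hne : K.comap π ≠ ⊤ := fun e => h2 (by
      rw [← map_comap_eq_self_of_surjective hsurj K, e, map_top_of_surjective π hsurj])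
    have := eq_of_le_of_card_ge hle (hmax ⟨_, hK.comap π, hne⟩)
    refine h1 ?_
    rw [← map_comap_eq_self_of_surjective hsurj K, ← this, Subgroup.map_eq_bot_iff, QuotientGroup.ker_mk']⟩
  have hna : ¬ ∀ a b : G ⧸ R, a * b = b * a := fun hab => hRne (eq_top_iff.2 (by
    rw [← hperf, commutator_le]
    intro a _ b _
    rw [← QuotientGroup.ker_mk' R, MonoidHom.mem_ker, map_commutatorElement]
    exact commutatorElement_eq_one_iff_mul_comm.2 (hab _ _)))
  obtain ⟨E, b, v, hE2, hEc, hbo, hbE, hvE, hvb⟩ := exists_odd_action hna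
  -- a lift of `b` normalising a Sylow subgroup of the preimage of `E`
  obtain ⟨b₀, hb₀⟩ := hsurj b
  set R' := E.comap π with hR'
  set T := normalizer (R' : Set G) with hT
  have hb₀T : b₀ ∈ T := by
    rw [hT, CfsgLib.Invol.mem_normalizer_iff_map_conj]
    refine eq_of_le_of_card_ge ?_ (CfsgLib.Invol.card_map_conj _ _).ge
    rintro _ ⟨r, hr, rfl⟩
    simp only [hR', mem_comap, MulEquiv.coe_toMonoidHom, MulAut.conj_apply, map_mul, map_inv, hb₀]
    exact hbE _ hr
  set Nn := R'.subgroupOf T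
  haveI : Nn.Normal := normal_in_normalizer
  obtain ⟨P⟩ : Nonempty (Sylow 2 Nn) := inferInstance
  set PT : Subgroup T := (P : Subgroup Nn).map Nn.subtype
  set P₀ : Subgroup G := PT.map T.subtype with hP₀
  have hP₀2 : IsPGroup 2 P₀ := (P.isPGroup'.map _).map _
  have hPE : ∀ u ∈ P₀, π u ∈ E := by
    rintro _ ⟨w, ⟨r, -, rfl⟩, rfl⟩
    exact r.2
  have hEP : ∀ e ∈ E, ∃ u ∈ P₀, π u = e := by
    let f : Nn →* E := ((π.comp T.subtype).comp Nn.subtype).codRestrict E fun r => r.2
    have hf : Function.Surjective f := fun ⟨e, he⟩ => by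
      obtain ⟨r, hr⟩ := hsurj e
      have hrR : r ∈ R' := by rw [hR', mem_comap, hr]; exact he
      exact ⟨⟨⟨r, le_normalizer hrR⟩, hrR⟩, Subtype.ext hr⟩
    have hE : IsPGroup 2 E := fun e => ⟨1, Subtype.ext (by
      rw [pow_one, sq]; exact hE2 _ e.2)⟩
    intro e he
    have htop : ((P.mapSurjective hf : Sylow 2 E) : Subgroup E) = ⊤ :=
      ((P.mapSurjective hf).3 (hE.to_subgroup ⊤) le_top).symm
    rw [Sylow.coe_mapSurjective] at htop
    obtain ⟨r, hr, hre⟩ := (htop.ge (mem_top (⟨e, he⟩ : E)) : (⟨e, he⟩ : E) ∈ (P : Subgroup Nn).map f)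
    exact ⟨_, ⟨_, ⟨r, hr, rfl⟩, rfl⟩, congrArg Subtype.val hre⟩
  obtain ⟨n₁, hn₁, r₁, hr₁, hnr⟩ : ∃ n ∈ normalizer (PT : Set T), ∃ r ∈ Nn, n * r = (⟨b₀, hb₀T⟩ : T) := by
    have := (Sylow.normalizer_sup_eq_top P).ge (mem_top (⟨b₀, hb₀T⟩ : T))
    exact mem_sup_of_normal_right.1 this
  set b₁ : G := (n₁ : G) with hb₁
  have hb₁P : b₁ ∈ normalizer (P₀ : Set G) := by
    rw [hP₀]
    exact le_normalizer_map T.subtype ⟨n₁, hn₁, rfl⟩
  have hr₁E : π (r₁ : G) ∈ E := hr₁
  have hb : b = π b₁ * π (r₁ : G) := by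
    rw [← hb₀, ← map_mul]
    exact congrArg (fun t : T => π (t : G)) hnr.symm
  have hact : ∀ (n : ℕ), ∀ w ∈ E, π b₁ ^ n * w * (π b₁ ^ n)⁻¹ = b ^ n * w * (b ^ n)⁻¹ ∧
      b ^ n * w * (b ^ n)⁻¹ ∈ E := by
    intro n
    induction n with
    | zero => intro w hw; simpa using hw
    | succ n ih =>
      intro w hw
      have h1 : π b₁ * w * (π b₁)⁻¹ = b * w * b⁻¹ := by
        rw [hb]
        calc π b₁ * w * (π b₁)⁻¹ = π b₁ * (w * π (r₁ : G)) * (π (r₁ : G))⁻¹ * (π b₁)⁻¹ := by group
          _ = _ := by rw [hEc w hw _ hr₁E]; group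
      have h2 := ih _ (hbE w hw)
      rw [pow_succ, pow_succ, mul_inv_rev, mul_inv_rev]
      constructor
      · calc π b₁ ^ n * π b₁ * w * ((π b₁)⁻¹ * (π b₁ ^ n)⁻¹)
            = π b₁ ^ n * (π b₁ * w * (π b₁)⁻¹) * (π b₁ ^ n)⁻¹ := by group
          _ = b ^ n * (b * w * b⁻¹) * (b ^ n)⁻¹ := by rw [h1, h2.1]
          _ = _ := by group
      · convert h2.2 using 1
        group
  obtain ⟨a, m, hm, hord⟩ := Nat.exists_eq_two_pow_mul_odd (orderOf_pos b₁).ne'
  set b₂ : G := b₁ ^ 2 ^ a with hb₂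
  have hb₂o : Odd (orderOf (π b₂)) := by
    refine Odd.of_dvd_nat hm ((orderOf_map_dvd π b₂).trans (orderOf_dvd_of_pow_eq_one ?_))
    rw [hb₂, ← pow_mul, ← hord, pow_orderOf_eq_one]
  have hb₂P : ∀ u ∈ P₀, b₂ * u * b₂⁻¹ ∈ P₀ := fun u hu =>
    (mem_normalizer_iff.1 (pow_mem hb₁P _) u).1 hu
  have hb₂E : ¬ Commute v (π b₂) := by
    intro hcm
    have h1 : b ^ 2 ^ a * v * (b ^ 2 ^ a)⁻¹ = v := by
      rw [← (hact _ v hvE).1, ← map_pow, ← hb₂, ← hcm.eq, mul_inv_cancel_right]
    obtain ⟨j, hj⟩ := exists_pow_eq_self_of_coprime (x := b) (n := 2 ^ a)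
      (Nat.Coprime.pow_left _ (Nat.coprime_two_left.2 hbo))
    refine hvb ?_
    rw [← hj]
    refine Commute.pow_right ?_ j
    exact (mul_inv_eq_iff_eq_mul.1 h1).symm
  -- a `2`-value with image an involution
  have hseq : ∀ j, ∃ c ∈ P₀, IsVal j c ∧ ¬ Commute (π c) (π b₂) := by
    intro j
    induction j with
    | zero =>
      obtain ⟨u, hu, hue⟩ := hEP v hvE
      exact ⟨u, hu, trivial, hue ▸ hb₂E⟩
    | succ j ih =>
      obtain ⟨c, hc, hcv, hcn⟩ := ih
      have hmem : ⁅c, b₂⁆ ∈ P₀ := by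
        rw [commutatorElement_def, show c * b₂ * c⁻¹ * b₂⁻¹ = c * (b₂ * c⁻¹ * b₂⁻¹) by group]
        exact mul_mem hc (hb₂P _ (inv_mem hc))
      refine ⟨_, hmem, ⟨c, b₂, hcv, rfl⟩, fun h => hcn (commutatorElement_eq_one_iff_commute.1 ?_)⟩
      set w := π ⁅c, b₂⁆ with hw
      have hw2 : w * w = 1 := hE2 _ (hPE _ hmem)
      obtain ⟨l, hl⟩ := hb₂o
      have e : π c * π b₂ * (π c)⁻¹ = w * π b₂ := by
        rw [hw, map_commutatorElement, commutatorElement_def]; group
      have h1 : (w * π b₂) ^ orderOf (π b₂) = 1 := by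
        rw [← e, conj_pow, pow_orderOf_eq_one]; group
      rw [Commute.mul_pow h, pow_orderOf_eq_one, mul_one, hl, pow_succ, pow_mul, sq, hw2, one_pow,
        one_mul] at h1
      rw [← map_commutatorElement]
      exact h1
  obtain ⟨c, hc, hcv, hcn⟩ := hseq k
  set x := ⁅c, b₂⁆ with hx
  have hxv : IsVal k x := IsVal.of_succ (k := k) ⟨c, b₂, hcv, rfl⟩
  have hxP : x ∈ P₀ := by
    rw [hx, commutatorElement_def, show c * b₂ * c⁻¹ * b₂⁻¹ = c * (b₂ * c⁻¹ * b₂⁻¹) by group]
    exact mul_mem hc (hb₂P _ (inv_mem hc))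
  have hx1 : π x ≠ 1 := by
    rw [hx, map_commutatorElement]
    exact fun h => hcn (commutatorElement_eq_one_iff_commute.1 h)
  have hx2 : π x * π x = 1 := hE2 _ (hPE x hxP)
  obtain ⟨i, hi⟩ := IsPGroup.iff_orderOf.1 hP₀2 ⟨x, hxP⟩
  rw [Subgroup.orderOf_mk] at hi
  by_cases hall : ∀ g : G ⧸ R, IsPGroup 2 ↥(zpowers (π x) ⊔ (zpowers (π x)).map (MulAut.conj g).toMonoidHom)
  · obtain ⟨N, hNn, hN2, hxN⟩ := CfsgLib.Invol.baer_suzuki (zpowers (π x))
      (IsPGroup.of_card (n := 1) (by rw [Nat.card_zpowers, pow_one, orderOf_eq_prime (by rw [sq]; exact hx2) hx1]))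
      hall
    rcases hNn.eq_bot_or_eq_top with h | h
    · exact hx1 (mem_bot.1 (h ▸ hxN (mem_zpowers _)))
    · haveI := (hN2.of_equiv ((MulEquiv.subgroupCongr h).trans Subgroup.topEquiv)).isNilpotent
      exact hna fun a b => IsSimpleGroup.comm_iff_isSolvable.2 inferInstance a b
  · push Not at hall
    obtain ⟨g', hg'⟩ := hall
    obtain ⟨g, rfl⟩ := hsurj g'
    set C : Set G := {x, g * x * g⁻¹}
    have hmap : (closure C).map π = zpowers (π x) ⊔ (zpowers (π x)).map (MulAut.conj (π g)).toMonoidHom := by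
      rw [MonoidHom.map_closure, Set.image_pair, Set.insert_eq, Subgroup.closure_union, MonoidHom.map_zpowers,
        zpowers_eq_closure, zpowers_eq_closure]
      simp
    by_cases hne : closure C = ⊤
    · rw [hne, map_top_of_surjective π hsurj, MonoidHom.map_zpowers] at hmap
      set u := π x with hu
      set w := (MulAut.conj (π g)).toMonoidHom u with hwdef
      have hw2 : w * w = 1 := by rw [hwdef, ← map_mul, hx2, map_one]
      have hui : u⁻¹ = u := inv_eq_of_mul_eq_one_right hx2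
      have hwi : w⁻¹ = w := inv_eq_of_mul_eq_one_right hw2
      haveI : (zpowers (u * w)).Normal := by
        rw [← normalizer_eq_top_iff, eq_top_iff, hmap, sup_le_iff, zpowers_le, zpowers_le]
        have key : ∀ t : G ⧸ R, t⁻¹ = t → t * (u * w) * t⁻¹ = (u * w)⁻¹ →
            t ∈ normalizer (zpowers (u * w) : Set (G ⧸ R)) := by
          intro t ht h
          rw [CfsgLib.Invol.mem_normalizer_iff_map_conj, MonoidHom.map_zpowers]
          rw [show (MulAut.conj t).toMonoidHom (u * w) = (u * w)⁻¹ from h, zpowers_inv]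
        refine ⟨key u hui ?_, key w hwi ?_⟩
        · rw [mul_inv_rev, hwi, hui, ← mul_assoc, hx2, one_mul]
        · rw [mul_inv_rev, hwi, hui, mul_assoc, mul_assoc, hw2, mul_one]
      rcases ((inferInstance : (zpowers (u * w)).Normal)).eq_bot_or_eq_top with h | h
      · rw [zpowers_eq_bot] at h
        have e : w = u := by rw [← hui]; exact eq_inv_of_mul_eq_one_right h
        rw [e, sup_idem] at hmap
        refine hna fun a b => ?_
        obtain ⟨i, hi⟩ := mem_zpowers_iff.1 (hmap ▸ mem_top a)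
        obtain ⟨j, hj⟩ := mem_zpowers_iff.1 (hmap ▸ mem_top b)
        rw [← hi, ← hj]
        exact (Commute.zpow_zpow_self u i j).eq
      · refine hna fun a b => ?_
        obtain ⟨i, hi⟩ := mem_zpowers_iff.1 (h ▸ mem_top a)
        obtain ⟨j, hj⟩ := mem_zpowers_iff.1 (h ▸ mem_top b)
        rw [← hi, ← hj]
        exact (Commute.zpow_zpow_self _ i j).eq
    · refine hg' ?_
      rw [← hmap]
      refine (isPGroup_closure_values hC hIH ?_ hne).map π
      rintro y (rfl | rfl)
      · exact ⟨hxv, i, hi⟩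
      · exact ⟨hxv.conj g, i, (orderOf_injective (MulAut.conj g).toMonoidHom (MulAut.conj g).injective x).trans hi⟩

theorem main_aux : ∀ (n : ℕ) (G : Type u) [Group G] [Finite G], Nat.card G = n → Cond G k →
    Good k (⊤ : Subgroup G) := by
  intro n
  induction n using Nat.strong_induction_on with
  | _ n ih =>
    intro G _ _ hn hC
    have hIH : ∀ H : Subgroup G, H ≠ ⊤ → Good k H := by
      intro H hH
      have hlt : Nat.card H < n := hn ▸ lt_of_le_of_ne H.card_le_card_group fun e => hH (eq_top_of_card_eq H e)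
      obtain ⟨h1, h2⟩ := ih _ hlt H rfl (hC.subgroup H)
      rw [Good, ← Subgroup.top_subtype_lowerCentralSeries]
      haveI := h1
      exact ⟨Group.nilpotent_of_mulEquiv (equivMapOfInjective _ H.subtype H.subtype_injective),
        gen_map H.subtype_injective h2⟩
    obtain ⟨N, hkN, hfix⟩ := exists_stable (⊤ : Subgroup G) k
    refine good_of_residual_nilpotent hC hIH hkN hfix ?_
    by_cases hne : (⊤ : Subgroup G).lowerCentralSeries N = ⊤
    · rcases subsingleton_or_nontrivial G with hs | hs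
      · exact inferInstance
      · rw [hne] at hfix
        exact (not_perfect hC hIH hfix).elim
    · exact residual_nilpotent hC hIH hkN hfix hne

theorem main (k : ℕ) :
    Group.IsNilpotent ↥((⊤ : Subgroup G).lowerCentralSeries k) ↔ Cond G k := by
  refine ⟨fun h x y hx hy hc => ?_, fun h => (main_aux _ G rfl h).1⟩
  haveI := h
  have hcom : Commute x y := by
    have := Group.isNilpotent_of_finite_tfae (G := (⊤ : Subgroup G).lowerCentralSeries k)
    exact congrArg Subtype.val (CfsgLib.OddLocal.commute_of_coprime_orderOf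
      (⟨x, hx.mem_lcs⟩ : (⊤ : Subgroup G).lowerCentralSeries k) ⟨y, hy.mem_lcs⟩
      (by rwa [Subgroup.orderOf_mk, Subgroup.orderOf_mk]))
  exact Or.inr (hcom.orderOf_mul_eq_mul_orderOf_of_coprime hc).ge

end CfsgLib.PGroup.CoprimeValues
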